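import Cfsg.Agent.Lib.H17.M22M.StemGen
import Cfsg.Agent.Lib.H28.StemTools2
import Cfsg.Agent.Lib.H28.StemPres

set_option autoImplicit false

/-!
# Generic group-theoretic tools for the multiplier of `M22` (helper17)
-/

namespace Cfsg.Agent.Lib.H17.M22M

open Subgroup
open scoped Pointwise

section metac

variable {X : Type*} [Group X]

/-- A group generated by `x`, `y` with `x ^ m = y ^ n = 1` and `y x y⁻¹ = x ^ k` has at most `n * m`
elements. -/
theorem card_closure_meta_le (x y : X) {m n k : ℕ} (hm : 0 < m) (hn : 0 < n) (hx : x ^ m = 1)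
    (hy : y ^ n = 1) (hconj : y * x * y⁻¹ = x ^ k) :
    Finite (closure ({x, y} : Set X)) ∧ Nat.card (closure ({x, y} : Set X)) ≤ n * m := by
  have key : ∀ h : X, h ∈ zpowers x → y * h * y⁻¹ ∈ zpowers x := by
    intro h hh
    obtain ⟨j, rfl⟩ := mem_zpowers_iff.1 hh
    have : y * x ^ j * y⁻¹ = (y * x * y⁻¹) ^ j := by rw [conj_zpow]
    rw [this, hconj]
    exact zpow_mem (pow_mem (mem_zpowers x) k) j
  have keyp : ∀ (i : ℕ) (h : X), h ∈ zpowers x → y ^ i * h * (y ^ i)⁻¹ ∈ zpowers x := by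
    intro i
    induction i with
    | zero => intro h hh; simpa using hh
    | succ i ih =>
      intro h hh
      have := key _ (ih h hh)
      have e : y ^ (i + 1) * h * (y ^ (i + 1))⁻¹ = y * (y ^ i * h * (y ^ i)⁻¹) * y⁻¹ := by
        rw [pow_succ']; group
      rw [e]; exact this
  have hyinv : y⁻¹ = y ^ (n - 1) := by
    rw [inv_eq_iff_mul_eq_one, ← pow_succ', Nat.sub_add_cancel hn, hy]
  have hnorm : zpowers y ≤ normalizer (zpowers x : Set X) := by
    rw [zpowers_le, mem_normalizer_iff]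
    intro h
    constructor
    · exact key h
    · intro hh
      have h5 := keyp (n - 1) _ hh
      rw [← hyinv] at h5
      have e : y⁻¹ * (y * h * y⁻¹) * y⁻¹⁻¹ = h := by group
      rw [e] at h5
      exact h5
  have hcl : closure ({x, y} : Set X) = zpowers y ⊔ zpowers x := by
    rw [zpowers_eq_closure, zpowers_eq_closure, ← Subgroup.closure_union]
    have hset : ({x, y} : Set X) = {y} ∪ {x} := by
      ext t
      simp only [Set.mem_insert_iff, Set.mem_singleton_iff, Set.mem_union]
      exact or_comm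
    rw [hset]
  have hset := coe_mul_of_left_le_normalizer_right (zpowers y) (zpowers x) hnorm
  have hr : Nat.card (zpowers x) ≤ m := by
    rw [Nat.card_zpowers]
    exact Nat.le_of_dvd hm (orderOf_dvd_of_pow_eq_one hx)
  have hs : Nat.card (zpowers y) ≤ n := by
    rw [Nat.card_zpowers]
    exact Nat.le_of_dvd hn (orderOf_dvd_of_pow_eq_one hy)
  have hfin_r : Finite (zpowers x) := Nat.finite_of_card_ne_zero (by
    rw [Nat.card_zpowers]
    exact (orderOf_pos_iff.2 (isOfFinOrder_iff_pow_eq_one.2 ⟨m, hm, hx⟩)).ne')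
  have hfin_s : Finite (zpowers y) := Nat.finite_of_card_ne_zero (by
    rw [Nat.card_zpowers]
    exact (orderOf_pos_iff.2 (isOfFinOrder_iff_pow_eq_one.2 ⟨n, hn, hy⟩)).ne')
  let f : ↥(zpowers y) × ↥(zpowers x) → ↥(zpowers y ⊔ zpowers x) :=
    fun t => ⟨t.1.1 * t.2.1, mul_mem (mem_sup_left t.1.2) (mem_sup_right t.2.2)⟩
  have hf : Function.Surjective f := by
    rintro ⟨g, hg⟩
    have hg' : g ∈ ((zpowers y ⊔ zpowers x : Subgroup X) : Set X) := hg
    rw [hset] at hg'
    obtain ⟨a, ha, b, hb, rfl⟩ := Set.mem_mul.1 hg'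
    exact ⟨(⟨a, ha⟩, ⟨b, hb⟩), rfl⟩
  have hle := Nat.card_le_card_of_surjective f hf
  rw [Nat.card_prod] at hle
  rw [hcl]
  refine ⟨Finite.of_surjective f hf, ?_⟩
  calc Nat.card ↥(zpowers y ⊔ zpowers x)
      ≤ Nat.card ↥(zpowers y) * Nat.card ↥(zpowers x) := hle
    _ ≤ n * m := Nat.mul_le_mul hs hr

/-- A homomorphism which is nontrivial on both generators of a metacyclic group `11 : 5` is injective
on it. -/
theorem meta_inj {G : Type*} [Group G] (σ : X →* G) (x y : X) (hx : x ^ 11 = 1) (hy : y ^ 5 = 1)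
    (hconj : y * x * y⁻¹ = x ^ 3) (hx1 : σ x ≠ 1) (hy1 : σ y ≠ 1) :
    ∀ g ∈ closure ({x, y} : Set X), σ g = 1 → g = 1 := by
  obtain ⟨hfin, hcard⟩ := card_closure_meta_le x y (by norm_num) (by norm_num) hx hy hconj
  set H := closure ({x, y} : Set X) with hH
  let τ : ↥H →* G := σ.comp H.subtype
  have hxH : x ∈ H := subset_closure (by simp)
  have hyH : y ∈ H := subset_closure (by simp)
  -- the range of `τ` has order divisible by 55
  have h11 : orderOf (σ x) = 11 := by
    have := orderOf_dvd_of_pow_eq_one (show (σ x) ^ 11 = 1 by rw [← map_pow, hx, map_one])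
    rcases (Nat.dvd_prime (by norm_num : Nat.Prime 11)).1 this with h | h
    · exact absurd (orderOf_eq_one_iff.1 h) hx1
    · exact h
  have h5 : orderOf (σ y) = 5 := by
    have := orderOf_dvd_of_pow_eq_one (show (σ y) ^ 5 = 1 by rw [← map_pow, hy, map_one])
    rcases (Nat.dvd_prime (by norm_num : Nat.Prime 5)).1 this with h | h
    · exact absurd (orderOf_eq_one_iff.1 h) hy1
    · exact h
  have hfinR : Finite τ.range := Finite.of_surjective τ.rangeRestrict τ.rangeRestrict_surjective
  have hd11 : 11 ∣ Nat.card τ.range := by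
    have hmem : σ x ∈ τ.range := ⟨⟨x, hxH⟩, rfl⟩
    have := Subgroup.orderOf_dvd_natCard τ.range hmem
    rwa [h11] at this
  have hd5 : 5 ∣ Nat.card τ.range := by
    have hmem : σ y ∈ τ.range := ⟨⟨y, hyH⟩, rfl⟩
    have := Subgroup.orderOf_dvd_natCard τ.range hmem
    rwa [h5] at this
  have hd55 : 55 ∣ Nat.card τ.range :=
    Nat.Coprime.mul_dvd_of_dvd_of_dvd (by norm_num : Nat.Coprime 11 5) hd11 hd5
  have hpos : 0 < Nat.card τ.range := Nat.card_pos
  have h55 : 55 ≤ Nat.card τ.range := Nat.le_of_dvd hpos hd55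
  -- hence `τ` is injective
  have hsurj : Function.Surjective τ.rangeRestrict := τ.rangeRestrict_surjective
  have hle : Nat.card H ≤ Nat.card τ.range := le_trans hcard (by simpa using h55)
  have hbij : Function.Bijective τ.rangeRestrict := by
    rw [Nat.bijective_iff_surjective_and_card]
    exact ⟨hsurj, le_antisymm hle (Nat.card_le_card_of_surjective _ hsurj)⟩
  intro g hg hg1
  have : τ.rangeRestrict ⟨g, hg⟩ = τ.rangeRestrict 1 := by
    apply Subtype.ext
    rw [map_one]
    exact hg1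
  have := hbij.1 this
  exact congrArg Subtype.val this

end metac

section gen

variable {Γ G : Type*} [Group Γ] [Group G]

/-- Lifts of generators generate a stem extension. -/
theorem closure_lift_eq_top (σ : Γ →* G) (hcen : σ.ker ≤ center Γ) (hcomm : σ.ker ≤ commutator Γ)
    (S : Set Γ) (hS : closure (σ '' S) = ⊤) : closure S = ⊤ := by
  set L := closure S with hL
  have hmap : L.map σ = ⊤ := by
    rw [hL, MonoidHom.map_closure]; exact hS
  have hdec : ∀ γ : Γ, ∃ k ∈ σ.ker, ∃ l ∈ L, γ = k * l := by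
    intro γ
    have : σ γ ∈ L.map σ := by rw [hmap]; trivial
    obtain ⟨l, hl, hlγ⟩ := this
    refine ⟨γ * l⁻¹, ?_, l, hl, by group⟩
    rw [MonoidHom.mem_ker, map_mul, map_inv, hlγ, mul_inv_cancel]
  have hcr : commutator Γ ≤ L := by
    rw [commutator_def, Subgroup.commutator_le]
    intro x _ y _
    obtain ⟨k₁, hk₁, l₁, hl₁, rfl⟩ := hdec x
    obtain ⟨k₂, hk₂, l₂, hl₂, rfl⟩ := hdec y
    rw [Cfsg.Agent.Lib.H28.StemPres.commutatorElement_central_mul (hcen hk₁) (hcen hk₂)]
    exact Subgroup.commutator_mem_commutator hl₁ hl₂ |> (Cfsg.Agent.Lib.H28.StemLift.comm_le_self L ·)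
  rw [eq_top_iff]
  intro γ _
  obtain ⟨k, hk, l, hl, rfl⟩ := hdec γ
  exact mul_mem (hcr (hcomm hk)) hl

end gen

section cyc

variable {K : Type*} [Group K]

/-- a cyclic group generated by an element `z` with `z ^ 12 = 1` is an image of `ZMod 12` -/
theorem exists_surj_zmod12 (z : K) (h12 : z ^ 12 = 1) (hgen : ∀ y : K, y ∈ zpowers z) :
    ∃ f : Multiplicative (ZMod 12) →* K, Function.Surjective f ∧ f (Multiplicative.ofAdd 1) = z := by
  let f : Multiplicative (ZMod 12) →* K :=
    { toFun := fun m => z ^ (Multiplicative.toAdd m).val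
      map_one' := by simp
      map_mul' := by
        intro a b
        change z ^ (Multiplicative.toAdd a + Multiplicative.toAdd b).val = _
        rw [ZMod.val_add, ← pow_eq_pow_mod _ h12, pow_add] }
  refine ⟨f, ?_, ?_⟩
  · intro y
    have hfo : IsOfFinOrder z := isOfFinOrder_iff_pow_eq_one.2 ⟨12, by norm_num, h12⟩
    obtain ⟨n, rfl⟩ := (IsOfFinOrder.mem_powers_iff_mem_zpowers hfo).2 (hgen y)
    refine ⟨Multiplicative.ofAdd (n : ZMod 12), ?_⟩
    change z ^ ((n : ZMod 12)).val = z ^ n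
    rw [ZMod.val_natCast, ← pow_eq_pow_mod _ h12]
  · change z ^ ((1 : ZMod 12)).val = z
    rw [show ((1 : ZMod 12)).val = 1 from rfl, pow_one]

end cyc

end Cfsg.Agent.Lib.H17.M22M
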