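import Mathlib
import Cfsg.Prelude.Def_KGroupFacts

set_option autoImplicit false

/-!
# Generic lemmas on finite stem extensions (helper17)

* `pow_card_eq_one`: the kernel of a finite stem extension of `G` has exponent dividing `#G`.
* `exists_lift_pow`: an element of order prime to the exponent of the kernel has a lift of the same order.
* `conj_eq_pow`: a "Frobenius" relation `b a b⁻¹ = a ^ k` lifts exactly.
-/

namespace Cfsg.Agent.Lib.H17.M22M

open Subgroup

variable {E G : Type*} [Group E] [Group G]

/-- A central element lying in the commutator subgroup has order dividing the index of the centre. -/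
theorem pow_index_center_eq_one [Finite E] {z : E} (hz : z ∈ commutator E) :
    z ^ (center E).index = 1 := by
  have : FiniteIndex (center E) := ⟨Subgroup.index_ne_zero_of_finite⟩
  have key : ∀ w ∈ commutator E, MonoidHom.transferCenterPow E w = 1 := by
    intro w hw
    rw [commutator_eq_closure] at hw
    induction hw using Subgroup.closure_induction with
    | mem x hx =>
      obtain ⟨p, q, rfl⟩ := hx
      rw [commutatorElement_def, map_mul, map_mul, map_mul, map_inv, map_inv]
      have hc : ∀ u v : center E, u * v = v * u := fun u v => by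
        apply Subtype.ext
        rw [Subgroup.coe_mul, Subgroup.coe_mul]
        exact ((mem_center_iff.1 v.2) u.1)
      rw [hc (MonoidHom.transferCenterPow E p) (MonoidHom.transferCenterPow E q), mul_inv_cancel_right,
        mul_inv_cancel]
    | one => exact map_one _
    | mul x y _ _ hx hy => rw [map_mul, hx, hy, one_mul]
    | inv x _ hx => rw [map_inv, hx, inv_one]
  have h1 := key z hz
  have h2 : ((MonoidHom.transferCenterPow E z : center E) : E) = z ^ (center E).index :=
    MonoidHom.transferCenterPow_apply (G := E) z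
  rw [h1] at h2
  exact h2.symm

/-- The kernel of a finite stem extension of `G` has exponent dividing `#G`. -/
theorem pow_card_eq_one [Finite E] (σ : E →* G) (hσ : Cfsg.IsStemExtension σ) {z : E}
    (hz : z ∈ σ.ker) : z ^ Nat.card G = 1 := by
  obtain ⟨hs, hc, hd⟩ := hσ
  have h1 := pow_index_center_eq_one (hd hz)
  have hidx : σ.ker.index = Nat.card G := by
    rw [Subgroup.index_ker, MonoidHom.range_eq_top.2 hs, Subgroup.card_top]
  have hdvd : (center E).index ∣ σ.ker.index := Subgroup.index_dvd_of_le hc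
  rw [hidx] at hdvd
  obtain ⟨k, hk⟩ := hdvd
  rw [hk, pow_mul, h1, one_pow]

/-- Lifting an element of order dividing `m` to an element of order dividing `m`, when the kernel is
central of exponent dividing `N` prime to `m`. -/
theorem exists_lift_pow (σ : E →* G) (hs : Function.Surjective σ)
    {N m : ℕ} (hN : ∀ z ∈ σ.ker, z ^ N = 1) (hcop : Nat.Coprime m N) {g : G} (hg : g ^ m = 1) :
    ∃ x : E, σ x = g ∧ x ^ m = 1 := by
  obtain ⟨x0, hx0⟩ := hs g
  -- choose `t` with `t * N ≡ 1 (mod m)`
  have hx0m : x0 ^ m ∈ σ.ker := by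
    rw [MonoidHom.mem_ker, map_pow, hx0, hg]
  rcases Nat.eq_zero_or_pos m with hm0 | hmpos
  · subst hm0
    exact ⟨x0, hx0, pow_zero _⟩
  obtain ⟨t, ht⟩ : ∃ t : ℕ, N * t ≡ 1 [MOD m] := by
    rcases Nat.lt_or_ge 1 m with h1 | h1
    · obtain ⟨t, -, ht⟩ := Nat.exists_mul_mod_eq_one_of_coprime (k := m) (n := N) hcop.symm h1
      exact ⟨t, by rw [Nat.ModEq, ht, Nat.mod_eq_of_lt h1]⟩
    · have : m = 1 := le_antisymm h1 hmpos
      subst this
      exact ⟨0, Nat.modEq_one⟩
  refine ⟨x0 ^ (N * t), ?_, ?_⟩
  · rw [map_pow, hx0]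
    have : g ^ (N * t) = g ^ 1 := by
      rw [pow_eq_pow_iff_modEq]
      exact ht.of_dvd (orderOf_dvd_of_pow_eq_one hg)
    rw [this, pow_one]
  · rw [← pow_mul, mul_comm, pow_mul, pow_mul, hN _ hx0m, one_pow]

/-- A relation `b a b⁻¹ = a ^ k` between lifts holds exactly when `a` has order dividing `m` prime to the
exponent of the central kernel. -/
theorem conj_eq_pow (σ : E →* G) (hc : σ.ker ≤ center E)
    {N m k : ℕ} (hN : ∀ z ∈ σ.ker, z ^ N = 1) (hcop : Nat.Coprime m N) {a b : E}
    (ha : a ^ m = 1) (hab : σ (b * a * b⁻¹) = σ (a ^ k)) : b * a * b⁻¹ = a ^ k := by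
  set t : E := (a ^ k)⁻¹ * (b * a * b⁻¹) with ht
  have htk : t ∈ σ.ker := by
    rw [MonoidHom.mem_ker, ht, map_mul, map_inv, hab, inv_mul_cancel]
  have htc : ∀ y : E, t * y = y * t := fun y => ((mem_center_iff.1 (hc htk)) y).symm
  have heq : b * a * b⁻¹ = a ^ k * t := by rw [ht]; group
  have h1 : (b * a * b⁻¹) ^ m = 1 := by
    rw [conj_pow, ha, mul_one, mul_inv_cancel]
  have h2 : (a ^ k * t) ^ m = t ^ m := by
    have hcomm : Commute (a ^ k) t := (htc (a ^ k)).symm
    rw [hcomm.mul_pow, ← pow_mul, mul_comm k m, pow_mul, ha, one_pow, one_mul]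
  have htm : t ^ m = 1 := by rw [← h2, ← heq, h1]
  have htN : t ^ N = 1 := hN t htk
  have ht1 : t = 1 := by
    have hd1 := orderOf_dvd_of_pow_eq_one htm
    have hd2 := orderOf_dvd_of_pow_eq_one htN
    have := Nat.dvd_gcd hd1 hd2
    rw [hcop.gcd_eq_one, Nat.dvd_one] at this
    exact orderOf_eq_one_iff.1 this
  rw [heq, ht1, mul_one]

end Cfsg.Agent.Lib.H17.M22M
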