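import Cfsg.Agent.Lib.H17.M22M.MonoGlue

set_option autoImplicit false

/-!
# The presented group `P`: exact relators and central relators on three generators
-/

namespace Cfsg.Agent.Lib.H17.M22M

open FreeGroup

theorem map_gl {K L : Type*} [Group K] [Group L] (f : K →* L) (x y z : K) (i : ℕ) :
    f (gl x y z i) = gl (f x) (f y) (f z) i := by
  unfold gl
  split <;> simp

theorem map_wv {K L : Type*} [Group K] [Group L] (f : K →* L) (x y z : K) (w : List ℕ) :
    f (wv x y z w) = wv (f x) (f y) (f z) w := by
  unfold wv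
  rw [map_list_prod, List.map_map]
  congr 1
  apply List.map_congr_left
  intro i _
  exact map_gl f x y z i

/-- the word in the free group -/
def wF (w : List ℕ) : FreeGroup (Fin 3) := wv (of 0) (of 1) (of 2) w

/-- the relators: the exact words and the commutators of the central words with the generators -/
def rels : Set (FreeGroup (Fin 3)) :=
  {r | (∃ w ∈ Cert.exactL, r = wF w) ∨
    (∃ w ∈ Cert.symL ++ Cert.cenL, ∃ i : Fin 3, r = wF w * of i * (wF w)⁻¹ * (of i)⁻¹)}

/-- the presented group -/
abbrev P : Type := PresentedGroup rels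

/-- the generators of `P` -/
def pa : P := PresentedGroup.of 0
/-- the generators of `P` -/
def pb : P := PresentedGroup.of 1
/-- the generators of `P` -/
def pc : P := PresentedGroup.of 2

theorem mk_wF (w : List ℕ) : PresentedGroup.mk rels (wF w) = wv pa pb pc w := by
  unfold wF
  rw [map_wv]
  rfl

theorem lift_wF {K : Type*} [Group K] (f : Fin 3 → K) (w : List ℕ) :
    FreeGroup.lift f (wF w) = wv (f 0) (f 1) (f 2) w := by
  unfold wF
  rw [map_wv]
  simp only [FreeGroup.lift_apply_of]

theorem P_exact : ∀ w ∈ Cert.exactL, wv pa pb pc w = 1 := by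
  intro w hw
  rw [← mk_wF]
  exact (PresentedGroup.one_of_mem (Or.inl ⟨w, hw, rfl⟩))

theorem P_comm : ∀ w ∈ Cert.symL ++ Cert.cenL, ∀ i : Fin 3,
    wv pa pb pc w * (PresentedGroup.of i : P) = PresentedGroup.of i * wv pa pb pc w := by
  intro w hw i
  rw [← mk_wF]
  have : PresentedGroup.mk rels (wF w * of i * (wF w)⁻¹ * (of i)⁻¹) = 1 :=
    PresentedGroup.one_of_mem (Or.inr ⟨w, hw, i, rfl⟩)
  rw [_root_.map_mul, _root_.map_mul, _root_.map_mul, _root_.map_inv, _root_.map_inv] at this
  have h2 : PresentedGroup.mk rels (wF w) * PresentedGroup.mk rels (of i) =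
      PresentedGroup.mk rels (of i) * PresentedGroup.mk rels (wF w) := by
    rw [mul_inv_eq_one, mul_inv_eq_iff_eq_mul] at this
    exact this
  exact h2

theorem P_gen : Subgroup.closure {pa, pb, pc} = (⊤ : Subgroup P) := by
  have h := PresentedGroup.closure_range_of rels
  rw [eq_top_iff, ← h, Subgroup.closure_le]
  rintro _ ⟨i, rfl⟩
  apply Subgroup.subset_closure
  fin_cases i
  · left; rfl
  · right; left; rfl
  · right; right; rfl

/-- the central words are central in `P` -/
theorem P_central : ∀ w ∈ Cert.symL ++ Cert.cenL, wv pa pb pc w ∈ Subgroup.center P := by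
  intro w hw
  have hcen : Subgroup.centralizer {wv pa pb pc w} = ⊤ := by
    rw [eq_top_iff, ← P_gen, Subgroup.closure_le]
    intro g hg
    have key : ∀ i : Fin 3, (PresentedGroup.of i : P) ∈ Subgroup.centralizer {wv pa pb pc w} := by
      intro i
      rw [Subgroup.mem_centralizer_iff]
      intro h hh
      rw [Set.mem_singleton_iff] at hh
      subst hh
      exact P_comm w hw i
    simp only [Set.mem_insert_iff, Set.mem_singleton_iff] at hg
    rcases hg with rfl | rfl | rfl
    · exact key 0
    · exact key 1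
    · exact key 2
  rw [Subgroup.mem_center_iff]
  intro g
  have hg : g ∈ Subgroup.centralizer {wv pa pb pc w} := by rw [hcen]; trivial
  rw [Subgroup.mem_centralizer_iff] at hg
  exact (hg _ rfl).symm

/-- a homomorphism from `P` -/
def homP {K : Type*} [Group K] (x y z : K) (hex : ∀ w ∈ Cert.exactL, wv x y z w = 1)
    (hcen : ∀ w ∈ Cert.symL ++ Cert.cenL, ∀ i : Fin 3, wv x y z w * ![x, y, z] i = ![x, y, z] i * wv x y z w) :
    P →* K :=
  PresentedGroup.toGroup (f := ![x, y, z]) (by
    intro r hr
    rcases hr with ⟨w, hw, rfl⟩ | ⟨w, hw, i, rfl⟩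
    · rw [lift_wF]
      exact hex w hw
    · rw [_root_.map_mul, _root_.map_mul, _root_.map_mul, _root_.map_inv, _root_.map_inv, lift_wF, mul_inv_eq_one,
        mul_inv_eq_iff_eq_mul, FreeGroup.lift_apply_of]
      exact hcen w hw i)

variable {K : Type*} [Group K] (x y z : K) (hex : ∀ w ∈ Cert.exactL, wv x y z w = 1)
    (hcen : ∀ w ∈ Cert.symL ++ Cert.cenL, ∀ i : Fin 3, wv x y z w * ![x, y, z] i = ![x, y, z] i * wv x y z w)

theorem homP_pa : homP x y z hex hcen pa = x := by
  unfold homP pa
  rw [PresentedGroup.toGroup.of]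
  rfl

theorem homP_pb : homP x y z hex hcen pb = y := by
  unfold homP pb
  rw [PresentedGroup.toGroup.of]
  rfl

theorem homP_pc : homP x y z hex hcen pc = z := by
  unfold homP pc
  rw [PresentedGroup.toGroup.of]
  rfl

theorem homP_wv (w : List ℕ) : homP x y z hex hcen (wv pa pb pc w) = wv x y z w := by
  rw [map_wv, homP_pa, homP_pb, homP_pc]

/-- the commutation hypothesis from centrality -/
theorem hcen_of_center (h : ∀ w ∈ Cert.symL ++ Cert.cenL, wv x y z w ∈ Subgroup.center K) :
    ∀ w ∈ Cert.symL ++ Cert.cenL, ∀ i : Fin 3, wv x y z w * ![x, y, z] i = ![x, y, z] i * wv x y z w :=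
  fun w hw _ => ((Subgroup.mem_center_iff.mp (h w hw)) _).symm

end Cfsg.Agent.Lib.H17.M22M
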