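import Cfsg.Agent.Lib.H17.M22M.AbsTools
import Cfsg.Agent.Lib.H17.M22M.Pres

set_option autoImplicit false

/-!
# The core counting argument for central extensions of `M22` (helper17)
-/

namespace Cfsg.Agent.Lib.H17.M22M

open Subgroup
open scoped commutatorElement

section rels

variable {K : Type*} [Group K] (x y z : K)

theorem rel0_iff : wv x y z [0, 0, 0, 0, 0, 0, 0, 0, 0, 0, 0] = 1 ↔ x ^ 11 = 1 := by
  have e : wv x y z [0, 0, 0, 0, 0, 0, 0, 0, 0, 0, 0] = x ^ 11 := by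
    simp only [wv, gl, List.map, List.prod_cons, List.prod_nil, pow_succ, pow_zero, one_mul, mul_one,
      mul_assoc]
  rw [e]

theorem rel1_iff : wv x y z [2, 2, 2, 2, 2] = 1 ↔ y ^ 5 = 1 := by
  have e : wv x y z [2, 2, 2, 2, 2] = y ^ 5 := by
    simp only [wv, gl, List.map, List.prod_cons, List.prod_nil, pow_succ, pow_zero, one_mul, mul_one,
      mul_assoc]
  rw [e]

theorem rel2_iff : wv x y z [4, 4, 4, 4, 4, 4, 4] = 1 ↔ z ^ 7 = 1 := by
  have e : wv x y z [4, 4, 4, 4, 4, 4, 4] = z ^ 7 := by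
    simp only [wv, gl, List.map, List.prod_cons, List.prod_nil, pow_succ, pow_zero, one_mul, mul_one,
      mul_assoc]
  rw [e]

theorem rel3_iff : wv x y z [2, 0, 3, 1, 1, 1] = 1 ↔ y * x * y⁻¹ = x ^ 3 := by
  have e : wv x y z [2, 0, 3, 1, 1, 1] = (y * x * y⁻¹) * (x ^ 3)⁻¹ := by
    simp only [wv, gl, List.map, List.prod_cons, List.prod_nil]; group
  rw [e, mul_inv_eq_one]

theorem rel4_iff : wv x y z [4, 0, 2, 1, 5, 3, 3, 3] = 1 ↔ (z * x) * y * (z * x)⁻¹ = y ^ 3 := by
  have e : wv x y z [4, 0, 2, 1, 5, 3, 3, 3] = ((z * x) * y * (z * x)⁻¹) * (y ^ 3)⁻¹ := by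
    simp only [wv, gl, List.map, List.prod_cons, List.prod_nil]; group
  rw [e, mul_inv_eq_one]

/-- the conjugating element of the third Frobenius relation -/
def tauE : K := x * z * y⁻¹ * x⁻¹ * z * y * z⁻¹ * x

theorem rel5_iff : wv x y z [0, 4, 3, 1, 4, 2, 5, 0, 4, 1, 4, 3, 5, 0, 2, 5, 1, 5, 5] = 1 ↔
    tauE x y z * z * (tauE x y z)⁻¹ = z ^ 2 := by
  have e : wv x y z [0, 4, 3, 1, 4, 2, 5, 0, 4, 1, 4, 3, 5, 0, 2, 5, 1, 5, 5] =
      (tauE x y z * z * (tauE x y z)⁻¹) * (z ^ 2)⁻¹ := by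
    simp only [wv, gl, List.map, List.prod_cons, List.prod_nil, tauE]; group
  rw [e, mul_inv_eq_one]

theorem exact_iff : (∀ w ∈ Cert.exactL, wv x y z w = 1) ↔
    (x ^ 11 = 1 ∧ y ^ 5 = 1 ∧ z ^ 7 = 1 ∧ y * x * y⁻¹ = x ^ 3 ∧ (z * x) * y * (z * x)⁻¹ = y ^ 3 ∧
      tauE x y z * z * (tauE x y z)⁻¹ = z ^ 2) := by
  rw [← rel0_iff x y z, ← rel1_iff x y z, ← rel2_iff x y z, ← rel3_iff x y z, ← rel4_iff x y z,
    ← rel5_iff x y z]
  simp only [Cert.exactL, List.mem_cons, List.not_mem_nil, or_false, forall_eq_or_imp, forall_eq]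

/-- the exact relators make the three elements products of commutators -/
theorem mem_commutator_of_exact (hex : ∀ w ∈ Cert.exactL, wv x y z w = 1) :
    x ∈ commutator K ∧ y ∈ commutator K ∧ z ∈ commutator K := by
  obtain ⟨h0, h1, h2, h3, h4, h5⟩ := (exact_iff x y z).1 hex
  have hc : ∀ p q : K, ⁅p, q⁆ ∈ commutator K := fun p q =>
    Subgroup.commutator_mem_commutator (Subgroup.mem_top p) (Subgroup.mem_top q)
  refine ⟨?_, ?_, ?_⟩
  · have e : ⁅y, x⁆ = x ^ 2 := by
      rw [commutatorElement_def, h3]; group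
    have hx2 : x ^ 2 ∈ commutator K := by rw [← e]; exact hc y x
    have e2 : x = (x ^ 2) ^ 6 * (x ^ 11)⁻¹ := by group
    rw [e2, h0, inv_one, mul_one]
    exact pow_mem hx2 6
  · have e : ⁅z * x, y⁆ = y ^ 2 := by
      rw [commutatorElement_def, h4]; group
    have hy2 : y ^ 2 ∈ commutator K := by rw [← e]; exact hc (z * x) y
    have e2 : y = (y ^ 2) ^ 3 * (y ^ 5)⁻¹ := by group
    rw [e2, h1, inv_one, mul_one]
    exact pow_mem hy2 3
  · have e : ⁅tauE x y z, z⁆ = z := by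
      rw [commutatorElement_def, h5]; group
    rw [← e]; exact hc _ _

end rels

section count

variable {E G : Type*} [Group E] [Group G]

/-- the counting argument -/
theorem count_main (σ : E →* G) (hs : Function.Surjective σ) (hG : Nat.card G = 443520)
    (H : Subgroup E) [Finite H] (hH : Nat.card H ≤ 55) [Finite (E ⧸ H)] (z : E) (hz : z ∈ σ.ker)
    (hq : Nat.card (E ⧸ H) ≤ 8064 * orderOf z) :
    Finite E ∧ σ.ker = zpowers z := by
  have hfin : Finite E := Finite.of_equiv _ (Subgroup.groupEquivQuotientProdSubgroup (s := H)).symm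
  refine ⟨hfin, ?_⟩
  have h1 : Nat.card E = Nat.card (E ⧸ H) * Nat.card H :=
    Subgroup.card_eq_card_quotient_mul_card_subgroup H
  have h2 : Nat.card E = Nat.card σ.ker * Nat.card G :=
    Cfsg.Agent.Lib.H28.StemTools.card_eq_card_ker_mul σ hs
  have h3 : Nat.card σ.ker * 443520 ≤ orderOf z * 443520 := by
    calc Nat.card σ.ker * 443520 = Nat.card E := by rw [h2, hG]
      _ = Nat.card (E ⧸ H) * Nat.card H := h1
      _ ≤ (8064 * orderOf z) * 55 := Nat.mul_le_mul hq hH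
      _ = orderOf z * 443520 := by ring
  have h4 : Nat.card σ.ker ≤ orderOf z := Nat.le_of_mul_le_mul_right h3 (by norm_num)
  have hle : zpowers z ≤ σ.ker := by rw [zpowers_le]; exact hz
  symm
  apply Subgroup.eq_of_le_of_card_ge hle
  rw [Nat.card_zpowers]
  exact h4

/-- the core theorem: a central extension of a group of order `443520` with the exact relators, the
central relators and generation is controlled by the monomial coset enumeration -/
theorem core (σ : E →* G) (hs : Function.Surjective σ) (hG : Nat.card G = 443520)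
    (a b c : E) (ha1 : σ a ≠ 1) (hb1 : σ b ≠ 1)
    (hex : ∀ w ∈ Cert.exactL, wv a b c w = 1)
    (hcen : ∀ w ∈ Cert.symL ++ Cert.cenL, wv a b c w ∈ σ.ker ⊓ center E)
    (hgen : closure {a, b, c} = ⊤) :
    Finite E ∧ ((wv a b c zW)⁻¹) ^ 12 = 1 ∧ σ.ker = zpowers (wv a b c zW)⁻¹ ∧ σ.ker ≤ center E := by
  obtain ⟨h0, h1, h2, h3, h4, h5⟩ := (exact_iff a b c).1 hex
  have hinj := meta_inj σ a b h0 h1 h3 ha1 hb1
  have S : Setting a b c (σ.ker ⊓ center E) :=
    { central := inf_le_right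
      disj := fun x hx hxA => hinj x hx (MonoidHom.mem_ker.1 hxA.1)
      exact := hex
      rel := hcen
      gen := hgen }
  obtain ⟨hzA, hz12, hfinQ, hq⟩ := mono_main S
  obtain ⟨hfinH, hH⟩ := card_closure_meta_le a b (by norm_num : 0 < 11) (by norm_num : 0 < 5) h0 h1 h3
  obtain ⟨hfin, hker⟩ := count_main σ hs hG (closure {a, b}) hH _ hzA.1 hq
  refine ⟨hfin, hz12, hker, ?_⟩
  rw [hker, zpowers_le]
  exact hzA.2

end count

end Cfsg.Agent.Lib.H17.M22M
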