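import Cfsg.Agent.Lib.H17.M22M.AbsStem
import Cfsg.Agent.Lib.H17.M22M.ModelHom

set_option autoImplicit false

/-!
# The Schur multiplier of a group with the `M22` data is cyclic of order 12 (helper17)
-/

namespace Cfsg.Agent.Lib.H17.M22M

open Subgroup

variable {G : Type} [Group G] {am bm cm : G}

/-- the covering homomorphism -/
noncomputable def Base.cover (B : Base am bm cm) : P →* G :=
  homP am bm cm B.exact (fun w hw i => by
    rw [B.rel w (List.mem_append_right _ hw), one_mul, mul_one])

theorem Base.cover_wv (B : Base am bm cm) (w : List ℕ) : B.cover (wv pa pb pc w) = wv am bm cm w :=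
  homP_wv _ _ _ _ _ w

theorem Base.cover_surjective (B : Base am bm cm) : Function.Surjective B.cover := by
  rw [← MonoidHom.range_eq_top, eq_top_iff, ← B.gen, closure_le]
  intro g hg
  simp only [Set.mem_insert_iff, Set.mem_singleton_iff] at hg
  rcases hg with rfl | rfl | rfl
  · exact ⟨pa, homP_pa _ _ _ _ _⟩
  · exact ⟨pb, homP_pb _ _ _ _ _⟩
  · exact ⟨pc, homP_pc _ _ _ _ _⟩

theorem card_mul_zmod12 : Nat.card (Multiplicative (ZMod 12)) = 12 := by
  rw [Nat.card_eq_fintype_card, Fintype.card_multiplicative, ZMod.card]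

/-- a surjection from `ZMod 12` onto a subgroup generated by an element of order dividing `12` -/
theorem exists_surj_of_eq_zpowers {E : Type*} [Group E] (K : Subgroup E) (z : E) (h12 : z ^ 12 = 1)
    (hK : K = zpowers z) : ∃ f : Multiplicative (ZMod 12) →* ↥K, Function.Surjective f := by
  subst hK
  obtain ⟨f, hf, -⟩ := exists_surj_zmod12 (K := ↥(zpowers z)) ⟨z, mem_zpowers z⟩
    (Subtype.ext (by rw [SubmonoidClass.coe_pow]; exact h12)) (by
      rintro ⟨y, hy⟩
      obtain ⟨k, rfl⟩ := mem_zpowers_iff.1 hy
      rw [mem_zpowers_iff]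
      exact ⟨k, Subtype.ext (by rw [SubgroupClass.coe_zpow])⟩)
  exact ⟨f, hf⟩

theorem Base.main (B : Base am bm cm) : Cfsg.HasCyclicSchurMultiplier G 12 := by
  constructor
  · -- existence: the presented group
    have hs := B.cover_surjective
    have hcen : ∀ w ∈ Cert.symL ++ Cert.cenL, wv pa pb pc w ∈ B.cover.ker ⊓ center P := by
      intro w hw
      have h1 : wv pa pb pc w ∈ B.cover.ker := by
        rw [MonoidHom.mem_ker, B.cover_wv]
        exact B.rel w (List.mem_append_right _ hw)
      exact ⟨h1, P_central w hw⟩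
    obtain ⟨hfin, h12, hker, hkc⟩ := core B.cover hs B.card pa pb pc
      (by rw [Base.cover, homP_pa]; exact B.a_ne) (by rw [Base.cover, homP_pb]; exact B.b_ne)
      P_exact hcen P_gen
    have hord : orderOf ((wv pa pb pc zW)⁻¹ : P) = 12 :=
      Nat.dvd_antisymm (orderOf_dvd_of_pow_eq_one h12) twelve_dvd_orderOf_z
    have hperf : commutator P = ⊤ := by
      obtain ⟨h1, h2, h3⟩ := mem_commutator_of_exact pa pb pc P_exact
      rw [eq_top_iff, ← P_gen, closure_le]
      intro g hg
      simp only [Set.mem_insert_iff, Set.mem_singleton_iff] at hg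
      rcases hg with rfl | rfl | rfl
      · exact h1
      · exact h2
      · exact h3
    refine ⟨P, inferInstance, hfin, B.cover, ⟨hs, hkc, by rw [hperf]; exact le_top⟩, ?_⟩
    obtain ⟨f, hf⟩ := exists_surj_of_eq_zpowers B.cover.ker _ h12 hker
    have hcard : Nat.card ↥B.cover.ker = 12 := by
      rw [hker, Nat.card_zpowers, hord]
    have hbij : Function.Bijective f := by
      have : Finite ↥B.cover.ker := inferInstance
      rw [Nat.bijective_iff_surjective_and_card]
      exact ⟨hf, by rw [hcard, card_mul_zmod12]⟩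
    exact ⟨(MulEquiv.ofBijective f hbij).symm⟩
  · -- universality
    intro Γ _ _ σ hσ
    obtain ⟨z, h12, hker⟩ := B.stem σ hσ
    exact exists_surj_of_eq_zpowers σ.ker z h12 hker

end Cfsg.Agent.Lib.H17.M22M
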