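import Cfsg.Agent.Lib.H17.M22M.AbsCore

set_option autoImplicit false

/-!
# Finite stem extensions of a group with the `M22` data (helper17)
-/

namespace Cfsg.Agent.Lib.H17.M22M

open Subgroup

/-- the data on the group `G`: three generators satisfying all the relators, and the order -/
structure Base {G : Type*} [Group G] (am bm cm : G) : Prop where
  rel : ∀ w ∈ Cert.exactL ++ (Cert.symL ++ Cert.cenL), wv am bm cm w = 1
  gen : closure {am, bm, cm} = ⊤
  card : Nat.card G = 443520
  a_ne : am ≠ 1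
  b_ne : bm ≠ 1
  c_ne : cm ≠ 1

variable {G : Type*} [Group G] {am bm cm : G}

theorem Base.exact (B : Base am bm cm) : ∀ w ∈ Cert.exactL, wv am bm cm w = 1 :=
  fun w hw => B.rel w (List.mem_append_left _ hw)

theorem Base.finite (B : Base am bm cm) : Finite G :=
  Nat.finite_of_card_ne_zero (by rw [B.card]; norm_num)

theorem orderOf_eq_of_prime {g : G} {p : ℕ} (hp : p.Prime) (h1 : g ^ p = 1) (h2 : g ≠ 1) :
    orderOf g = p := by
  have := orderOf_dvd_of_pow_eq_one h1
  rcases (Nat.dvd_prime hp).1 this with h | h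
  · exact absurd (orderOf_eq_one_iff.1 h) h2
  · exact h

theorem Base.index_zpowers (B : Base am bm cm) {g : G} {p : ℕ} (hg : orderOf g = p) :
    (zpowers g).index * p = 443520 := by
  have := Subgroup.index_mul_card (zpowers g)
  rw [Nat.card_zpowers, hg, B.card] at this
  exact this

/-- the kernel of a finite stem extension has exponent dividing `1152 = 2^7 * 3^2` -/
theorem Base.ker_pow (B : Base am bm cm) {Γ : Type*} [Group Γ] [Finite Γ] (σ : Γ →* G)
    (hσ : Cfsg.IsStemExtension σ) : ∀ z ∈ σ.ker, z ^ 1152 = 1 := by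
  intro z hz
  obtain ⟨e0, e1, e2, -, -, -⟩ := (exact_iff am bm cm).1 B.exact
  have h1 : z ^ 443520 = 1 := by rw [← B.card]; exact pow_card_eq_one σ hσ hz
  set w := z ^ 1152 with hw
  have hwk : w ∈ σ.ker := pow_mem hz _
  have hw385 : w ^ 385 = 1 := by rw [hw, ← pow_mul]; exact h1
  have i5 : (zpowers bm).index = 88704 := by
    have := B.index_zpowers (orderOf_eq_of_prime (by norm_num : Nat.Prime 5) e1 B.b_ne)
    omega
  have i7 : (zpowers cm).index = 63360 := by
    have := B.index_zpowers (orderOf_eq_of_prime (by norm_num : Nat.Prime 7) e2 B.c_ne)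
    omega
  have i11 : (zpowers am).index = 40320 := by
    have := B.index_zpowers (orderOf_eq_of_prime (by norm_num : Nat.Prime 11) e0 B.a_ne)
    omega
  have h5 : w ^ 77 = 1 :=
    Cfsg.Agent.Lib.H28.StemTools.eq_one_of_cyclic σ hσ bm (pow_mem hwk 77) (n := 5)
      (by rw [← pow_mul]; exact hw385) (by rw [i5]; norm_num)
  have h7 : w ^ 55 = 1 :=
    Cfsg.Agent.Lib.H28.StemTools.eq_one_of_cyclic σ hσ cm (pow_mem hwk 55) (n := 7)
      (by rw [← pow_mul]; exact hw385) (by rw [i7]; norm_num)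
  have h11 : w ^ 35 = 1 :=
    Cfsg.Agent.Lib.H28.StemTools.eq_one_of_cyclic σ hσ am (pow_mem hwk 35) (n := 11)
      (by rw [← pow_mul]; exact hw385) (by rw [i11]; norm_num)
  have d1 := orderOf_dvd_of_pow_eq_one h5
  have d2 := orderOf_dvd_of_pow_eq_one h7
  have d3 := orderOf_dvd_of_pow_eq_one h11
  have d4 : orderOf w ∣ 11 := by
    have := Nat.dvd_gcd d1 d2
    norm_num at this
    exact this
  have d5 : orderOf w ∣ Nat.gcd 11 35 := Nat.dvd_gcd d4 d3
  have d6 : Nat.gcd 11 35 = 1 := by norm_num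
  rw [d6] at d5
  exact orderOf_eq_one_iff.1 (Nat.dvd_one.1 d5)

/-- the kernel of a finite stem extension is cyclic of order dividing 12 -/
theorem Base.stem (B : Base am bm cm) {Γ : Type*} [Group Γ] [Finite Γ] (σ : Γ →* G)
    (hσ : Cfsg.IsStemExtension σ) : ∃ z : Γ, z ^ 12 = 1 ∧ σ.ker = zpowers z := by
  have hN := B.ker_pow σ hσ
  obtain ⟨hs, hc, hd⟩ := hσ
  obtain ⟨e0, e1, e2, e3, e4, e5⟩ := (exact_iff am bm cm).1 B.exact
  obtain ⟨a, ha, ha11⟩ := exists_lift_pow σ hs hN (by norm_num : Nat.Coprime 11 1152) e0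
  obtain ⟨b, hb, hb5⟩ := exists_lift_pow σ hs hN (by norm_num : Nat.Coprime 5 1152) e1
  obtain ⟨c, hc', hc7⟩ := exists_lift_pow σ hs hN (by norm_num : Nat.Coprime 7 1152) e2
  have r3 : b * a * b⁻¹ = a ^ 3 :=
    conj_eq_pow σ hc hN (by norm_num : Nat.Coprime 11 1152) ha11
      (by rw [map_mul, map_mul, map_inv, map_pow, ha, hb]; exact e3)
  have r4 : (c * a) * b * (c * a)⁻¹ = b ^ 3 :=
    conj_eq_pow σ hc hN (by norm_num : Nat.Coprime 5 1152) hb5
      (by simp only [map_mul, map_inv, map_pow, ha, hb, hc']; exact e4)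
  have htau : σ (tauE a b c) = tauE am bm cm := by
    unfold tauE
    simp only [map_mul, map_inv, ha, hb, hc']
  have r5 : tauE a b c * c * (tauE a b c)⁻¹ = c ^ 2 :=
    conj_eq_pow σ hc hN (by norm_num : Nat.Coprime 7 1152) hc7
      (by rw [map_mul, map_mul, map_inv, map_pow, htau, hc']; exact e5)
  have hex := (exact_iff a b c).2 ⟨ha11, hb5, hc7, r3, r4, r5⟩
  have hcen : ∀ w ∈ Cert.symL ++ Cert.cenL, wv a b c w ∈ σ.ker ⊓ center Γ := by
    intro w hw
    have : wv a b c w ∈ σ.ker := by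
      rw [MonoidHom.mem_ker, map_wv, ha, hb, hc']
      exact B.rel w (List.mem_append_right _ hw)
    exact ⟨this, hc this⟩
  have hgen : closure {a, b, c} = ⊤ :=
    closure_lift_eq_top σ hc hd {a, b, c} (by
      rw [Set.image_insert_eq, Set.image_insert_eq, Set.image_singleton, ha, hb, hc']
      exact B.gen)
  obtain ⟨-, h12, hker, -⟩ := core σ hs B.card a b c (by rw [ha]; exact B.a_ne)
    (by rw [hb]; exact B.b_ne) hex hcen hgen
  exact ⟨_, h12, hker⟩

end Cfsg.Agent.Lib.H17.M22M
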