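import Cfsg.Agent.Lib.H27.OutM22
import Cfsg.Agent.Lib.H17.M22M.AbsStem

set_option autoImplicit false
set_option maxRecDepth 100000

/-!
# The `M22` data: three generators of `M22` satisfying the relators (helper17)

`a = d` (order 11), `b = u` (order 5), `c = (d u v)⁻¹` (order 7) in the notation of helper27's `OutM22`.
All relators are checked on the 24 points by kernel evaluation.
-/

namespace Cfsg.Agent.Lib.H17.M22M

open Cfsg Cfsg.Agent.Lib.H28 Cfsg.Agent.Lib.H27 Cfsg.Agent.Lib.H27.M24NF Cfsg.Agent.Lib.H27.OutM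

/-- the word of the third generator -/
def cw : List ℕ := invWord vw22 ++ invWord uw ++ invWord dw

/-- expansion of a letter -/
def expL : ℕ → List ℕ
  | 0 => dw
  | 1 => invWord dw
  | 2 => uw
  | 3 => invWord uw
  | 4 => cw
  | 5 => invWord cw
  | _ => []

/-- expansion of a word -/
def expW (w : List ℕ) : List ℕ := (w.map expL).flatten

theorem wordPerm_expL (x : ℕ) :
    wordPerm (expL x) = gl (wordPerm dw) (wordPerm uw) (wordPerm cw) x := by
  unfold expL gl
  split <;> simp only [wordPerm_invWord, wordPerm_nil]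

theorem wordPerm_expW (w : List ℕ) :
    wordPerm (expW w) = wv (wordPerm dw) (wordPerm uw) (wordPerm cw) w := by
  induction w with
  | nil => rfl
  | cons x u ih =>
    unfold expW wv at ih ⊢
    rw [List.map_cons, List.flatten_cons, wordPerm_append, ih, wordPerm_expL, List.map_cons,
      List.prod_cons]

theorem rel_chk22 : ∀ w ∈ Cert.exactL ++ (Cert.symL ++ Cert.cenL), eqW (expW w) [] = true := by
  decide +kernel

/-- the generators in `M22` -/
noncomputable def am : ↥Spor.M22 := ⟨wordPerm dw, wordPerm_mem_M22 (by decide +kernel) (by decide +kernel)⟩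
/-- the generators in `M22` -/
noncomputable def bm : ↥Spor.M22 := ⟨wordPerm uw, wordPerm_mem_M22 (by decide +kernel) (by decide +kernel)⟩
/-- the generators in `M22` -/
noncomputable def cm : ↥Spor.M22 := ⟨wordPerm cw, wordPerm_mem_M22 (by decide +kernel) (by decide +kernel)⟩

theorem coe_wv22 (w : List ℕ) :
    ((wv am bm cm w : ↥Spor.M22) : Equiv.Perm GolayPt) = wordPerm (expW w) := by
  rw [wordPerm_expW]
  exact map_wv (Spor.M22).subtype am bm cm w

theorem rel22 : ∀ w ∈ Cert.exactL ++ (Cert.symL ++ Cert.cenL), wv am bm cm w = 1 := by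
  intro w hw
  apply Subtype.ext
  rw [coe_wv22, wordPerm_eq_of_eqW (rel_chk22 w hw), wordPerm_nil]
  rfl

theorem c_ne_one : wordPerm cw ≠ 1 := by
  intro h
  have h2 : evalPt cw 1 ≠ 1 := by decide +kernel
  apply h2
  have := gIdx_wordPerm cw (gPt 1)
  rw [h, Equiv.Perm.one_apply, gIdx_gPt (by norm_num)] at this
  exact this.symm

theorem gen22 : Subgroup.closure {am, bm, cm} = (⊤ : Subgroup ↥Spor.M22) := by
  rw [eq_top_iff]
  intro g _
  have ha : am ∈ Subgroup.closure {am, bm, cm} := Subgroup.subset_closure (by simp)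
  have hb : bm ∈ Subgroup.closure {am, bm, cm} := Subgroup.subset_closure (by simp)
  have hc : cm ∈ Subgroup.closure {am, bm, cm} := Subgroup.subset_closure (by simp)
  have h1 : wordsClosure [dw, uw, vw22] ≤
      (Subgroup.closure {am, bm, cm}).map (Spor.M22).subtype := by
    apply wordsClosure_le
    intro w hw
    simp only [List.mem_cons, List.not_mem_nil, or_false] at hw
    rcases hw with rfl | rfl | rfl
    · exact ⟨am, ha, rfl⟩
    · exact ⟨bm, hb, rfl⟩
    · refine ⟨bm⁻¹ * am⁻¹ * cm⁻¹, mul_mem (mul_mem (inv_mem hb) (inv_mem ha)) (inv_mem hc), ?_⟩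
      change (wordPerm uw)⁻¹ * (wordPerm dw)⁻¹ * (wordPerm cw)⁻¹ = wordPerm vw22
      unfold cw
      rw [wordPerm_append, wordPerm_append, wordPerm_invWord, wordPerm_invWord, wordPerm_invWord]
      group
  have h2 : g.1 ∈ wordsClosure [dw, uw, vw22] := by rw [closure22.1]; exact g.2
  obtain ⟨y, hy, hyg⟩ := h1 h2
  have : y = g := Subtype.ext hyg
  rw [← this]; exact hy

/-- the `M22` data -/
theorem base22 : Base am bm cm where
  rel := rel22
  gen := gen22
  card := closure22.2
  a_ne := fun h => d_ne_one (congrArg Subtype.val h)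
  b_ne := fun h => u_ne_one (congrArg Subtype.val h)
  c_ne := fun h => c_ne_one (congrArg Subtype.val h)

end Cfsg.Agent.Lib.H17.M22M
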