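import Cfsg.Agent.Lib.H17.CosetCert

set_option autoImplicit false

/-!
# Certified monomial coset enumeration

A variant of `CosetCert` (directed facts, no coincidences) in which the facts carry a twist:
a fact `((a, x, b), t)` says `γ x • c a = tw t • c b`, where `tw t` lies in a group `A` acting on
the point set and commuting with the acting group.  Words act as elements of `A`; the value of a
word is either known beforehand (seed words) or is derived by tracing it along known facts
(promotion).
-/

namespace Cfsg.Agent.Lib.H17.MonoCert

open Cfsg.Agent.Lib.H17.CosetCert (force force_eq WT act act_append act_injective)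

section checker

variable {τ : Type} (tadd : τ → τ → τ) (tz : τ) (teq : τ → τ → Bool)
variable (F : ℕ → (ℕ × ℕ × ℕ) × τ) (Ev : ℕ → τ) (ng B : ℕ)

/-- one step of `walk` -/
noncomputable def walkStep (s : ℕ)
    (ih : ℕ → ℕ → List ℕ → τ → Option (ℕ × ℕ × List ℕ × τ))
    (c cur : ℕ) (rem : List ℕ) (acc : τ) : Option (ℕ × ℕ × List ℕ × τ) :=
  force (Nat.mod c B) fun f =>
  force (Nat.div c B) fun c' =>
  match F f, rem with
  | ((a, x, b), t), y :: rem' =>
      cond (Nat.ble (Nat.succ f) s && Nat.beq x y && Nat.beq cur a)
        (ih c' b rem' (tadd acc t)) none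
  | _, [] => none

/-- follow `n` old facts (ids `< s`, read as base-`B` digits of `c`) from `cur`, consuming
letters of `rem` and adding the twists to `acc` -/
noncomputable def walk (s : ℕ) (n : ℕ) :
    ℕ → ℕ → List ℕ → τ → Option (ℕ × ℕ × List ℕ × τ) :=
  Nat.rec (motive := fun _ => ℕ → ℕ → List ℕ → τ → Option (ℕ × ℕ × List ℕ × τ))
    (fun c cur rem acc => some (c, cur, rem, acc))
    (fun _ ih => walkStep tadd F B s ih) n

theorem walk_zero (s c cur : ℕ) (rem : List ℕ) (acc : τ) :
    walk tadd F B s 0 c cur rem acc = some (c, cur, rem, acc) := rfl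

theorem walk_succ (s n c cur : ℕ) (rem : List ℕ) (acc : τ) :
    walk tadd F B s (n + 1) c cur rem acc =
      walkStep tadd F B s (walk tadd F B s n) c cur rem acc := rfl

/-- the deduction part of a step -/
noncomputable def dedStep (s cnt np w k n1 n2 c4 : ℕ) (wd : List ℕ) (isRel : Bool) :
    Option (ℕ × ℕ × ℕ) :=
  match F s with
  | ((a, x, b), t) =>
    match walk tadd F B s n1 c4 k wd tz with
    | some (c5, p, y :: rem2, acc1) =>
      (match walk tadd F B s n2 c5 b rem2 (tadd acc1 t) with
      | some (_, k', [], acc2) =>
        cond (Nat.ble (Nat.succ a) cnt && Nat.ble (Nat.succ b) cnt && Nat.beq p a && Nat.beq x y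
              && Nat.beq k' k &&
              (cond isRel (Nat.ble (Nat.succ w) np && teq acc2 (Ev w))
                (Nat.beq k 0 && teq acc2 tz)))
          (some (Nat.succ s, cnt, np)) none
      | _ => none)
    | _ => none

/-- the promotion part of a step -/
noncomputable def promStep (s cnt np w k n1 c4 : ℕ) (wd : List ℕ) (isRel : Bool) :
    Option (ℕ × ℕ × ℕ) :=
  match walk tadd F B s n1 c4 k wd tz with
  | some (_, k', [], acc) =>
    cond (isRel && Nat.beq w np && Nat.beq k' k && teq acc (Ev w))
      (some (s, cnt, Nat.succ np)) none
  | _ => none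

/-- the definition part of a step -/
noncomputable def defStep (s cnt np : ℕ) : Option (ℕ × ℕ × ℕ) :=
  match F s with
  | ((a, x, b), t) =>
    cond (Nat.ble (Nat.succ a) cnt && Nat.beq b cnt && Nat.ble (Nat.succ x) ng && teq t tz)
      (some (Nat.succ s, Nat.succ cnt, np)) none

/-- check one step (encoded as `c`) in the state `s` facts, `cnt` nodes, `np` usable words.
Encoding: digit `0` for a definition; otherwise digits `tag, w, k, n1, n2, facts…` with
`tag = 1` for a deduction and `tag = 2` for a promotion. -/
noncomputable def checkStep (words : WT) (s cnt np c : ℕ) : Option (ℕ × ℕ × ℕ) :=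
  force (Nat.mod c B) fun tag =>
  force (Nat.div c B) fun c0 =>
  Nat.rec (motive := fun _ => Option (ℕ × ℕ × ℕ))
    (defStep tz teq F ng s cnt np)
    (fun tag' _ =>
      force (Nat.mod c0 B) fun w =>
      force (Nat.div c0 B) fun c1 =>
      force (Nat.mod c1 B) fun k =>
      force (Nat.div c1 B) fun c2 =>
      force (Nat.mod c2 B) fun n1 =>
      force (Nat.div c2 B) fun c3 =>
      force (Nat.mod c3 B) fun n2 =>
      force (Nat.div c3 B) fun c4 =>
      match WT.get words w with
      | none => none
      | some (wd, isRel) =>
        Nat.rec (motive := fun _ => Option (ℕ × ℕ × ℕ))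
          (dedStep tadd tz teq F Ev B s cnt np w k n1 n2 c4 wd isRel)
          (fun _ _ => promStep tadd tz teq F Ev B s cnt np w k n1 c4 wd isRel)
          tag')
    tag

/-- check a list of encoded steps -/
noncomputable def checkSteps (words : WT) (L : List ℕ) : ℕ → ℕ → ℕ → Option (ℕ × ℕ × ℕ) :=
  List.rec (motive := fun _ => ℕ → ℕ → ℕ → Option (ℕ × ℕ × ℕ))
    (fun s cnt np => some (s, cnt, np))
    (fun c _ ih s cnt np =>
      match checkStep tadd tz teq F Ev ng B words s cnt np c with
      | some (s', cnt', np') =>
        force s' fun s'' => force cnt' fun cnt'' => force np' fun np'' => ih s'' cnt'' np''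
      | none => none) L

theorem checkSteps_nil (words : WT) (s cnt np : ℕ) :
    checkSteps tadd tz teq F Ev ng B words [] s cnt np = some (s, cnt, np) := rfl

theorem checkSteps_cons (words : WT) (c : ℕ) (L : List ℕ) (s cnt np : ℕ) :
    checkSteps tadd tz teq F Ev ng B words (c :: L) s cnt np =
      match checkStep tadd tz teq F Ev ng B words s cnt np c with
      | some (s', cnt', np') => checkSteps tadd tz teq F Ev ng B words L s' cnt' np'
      | none => none := by
  change (match checkStep tadd tz teq F Ev ng B words s cnt np c with
      | some (s', cnt', np') =>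
        force s' fun s'' => force cnt' fun cnt'' => force np' fun np'' =>
          checkSteps tadd tz teq F Ev ng B words L s'' cnt'' np''
      | none => none) = _
  cases checkStep tadd tz teq F Ev ng B words s cnt np c with
  | none => rfl
  | some r =>
    obtain ⟨s', cnt', np'⟩ := r
    simp only [force_eq]

/-- one row of the final table: the facts `f_0, …` (digits of `c`) start at node `i` with the
letters `x, x + 1, …` -/
noncomputable def checkRow (s i : ℕ) (n : ℕ) : ℕ → ℕ → Bool :=
  Nat.rec (motive := fun _ => ℕ → ℕ → Bool) (fun _ _ => true)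
    (fun _ ih x c =>
      force (Nat.mod c B) fun f =>
      force (Nat.div c B) fun c' =>
      match F f with
      | ((a, y, _), _) =>
        cond (Nat.ble (Nat.succ f) s && Nat.beq a i && Nat.beq y x) (ih (Nat.succ x) c') false) n

/-- check the rows of the nodes `i, i + 1, …` -/
noncomputable def checkRows (s : ℕ) (L : List ℕ) : ℕ → Bool :=
  List.rec (motive := fun _ => ℕ → Bool) (fun _ => true)
    (fun c _ ih i => cond (checkRow F B s i ng 0 c) (force (Nat.succ i) ih) false) L

theorem checkRows_nil (s i : ℕ) : checkRows F ng B s [] i = true := rfl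

theorem checkRows_cons (s c : ℕ) (L : List ℕ) (i : ℕ) :
    checkRows F ng B s (c :: L) i =
      cond (checkRow F B s i ng 0 c) (checkRows F ng B s L (i + 1)) false := by
  change cond (checkRow F B s i ng 0 c) (force (Nat.succ i) (checkRows F ng B s L)) false = _
  rw [force_eq]

end checker

section sound

variable {τ : Type} (tadd : τ → τ → τ) (tz : τ) (teq : τ → τ → Bool)
variable (F : ℕ → (ℕ × ℕ × ℕ) × τ) (Ev : ℕ → τ) (ng B : ℕ)
variable {G Q A : Type*} [Group G] [MulAction G Q] [Group A] [MulAction A Q]
  [SMulCommClass G A Q]
variable (tw : τ → A) (γ : ℕ → G)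

theorem act_smul_comm (u : List ℕ) (α : A) (q : Q) : act γ u (α • q) = α • act γ u q := by
  induction u generalizing q with
  | nil => rfl
  | cons x u ih =>
    change act γ u (γ x • α • q) = α • act γ u (γ x • q)
    rw [smul_comm, ih]

/-- the hypotheses on the twists -/
structure TwOK : Prop where
  zero : tw tz = 1
  add : ∀ s t, tw (tadd s t) = tw s * tw t
  eq : ∀ s t, teq s t = true → tw s = tw t

/-- the fact with number `f` holds for the node assignment `c` -/
def Valid (c : ℕ → Q) (f : ℕ) : Prop :=
  γ (F f).1.2.1 • c (F f).1.1 = tw (F f).2 • c (F f).1.2.2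

theorem walk_sound (htw : TwOK tadd tz teq tw) (c : ℕ → Q) (s : ℕ)
    (hval : ∀ f < s, Valid F tw γ c f) (n : ℕ) :
    ∀ (code cur : ℕ) (rem : List ℕ) (acc : τ) (code' cur' : ℕ) (rem' : List ℕ) (acc' : τ),
      walk tadd F B s n code cur rem acc = some (code', cur', rem', acc') →
      ∃ u, rem = u ++ rem' ∧ tw acc • act γ u (c cur) = tw acc' • c cur' := by
  induction n with
  | zero =>
    intro code cur rem acc code' cur' rem' acc' h
    rw [walk_zero] at h
    simp only [Option.some.injEq, Prod.mk.injEq] at h
    obtain ⟨-, rfl, rfl, rfl⟩ := h
    exact ⟨[], rfl, rfl⟩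
  | succ n ih =>
    intro code cur rem acc code' cur' rem' acc' h
    rw [walk_succ] at h
    unfold walkStep at h
    simp only [force_eq] at h
    rcases hF : F (Nat.mod code B) with ⟨⟨a, x, b⟩, t⟩
    rw [hF] at h
    cases rem with
    | nil => exact absurd h (by simp)
    | cons y rem2 =>
      simp only [] at h
      cases hc : (Nat.ble (Nat.succ (Nat.mod code B)) s && Nat.beq x y && Nat.beq cur a) with
      | false => rw [hc] at h; exact absurd h (by simp)
      | true =>
        rw [hc] at h
        simp only [cond_true] at h
        simp only [Bool.and_eq_true] at hc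
        obtain ⟨⟨h1, h2⟩, h3⟩ := hc
        have hlt : Nat.mod code B < s := Nat.ble_eq.mp h1
        have hxy : x = y := Nat.eq_of_beq_eq_true h2
        have hca : cur = a := Nat.eq_of_beq_eq_true h3
        subst hxy hca
        obtain ⟨u, hu, hcu⟩ := ih _ _ _ _ _ _ _ _ h
        refine ⟨x :: u, by rw [hu]; rfl, ?_⟩
        have hv := hval _ hlt
        unfold Valid at hv
        rw [hF] at hv
        simp only [] at hv
        change tw acc • act γ u (γ x • c cur) = _
        rw [hv, act_smul_comm, ← mul_smul, ← htw.add, hcu]

variable (hfree : ∀ (α β : A) (q : Q), α • q = β • q → α = β)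

/-- the hypotheses on the words: relators act as elements of `A`, known for the seed words;
subgroup generators fix `q0` -/
def WordsOK (q0 : Q) (words : WT) (nseed : ℕ) : Prop :=
  ∀ w wd r, WT.get words w = some (wd, r) →
    (r = true → ∃ ρ : A, ∀ q : Q, act γ wd q = ρ • q) ∧
    (r = true → w < nseed → ∀ q : Q, act γ wd q = tw (Ev w) • q) ∧
    (r = false → act γ wd q0 = q0)

/-- the invariant after some steps: `s` facts, `cnt` nodes, `np` usable words -/
def Inv (q0 : Q) (words : WT) (s cnt np : ℕ) : Prop :=
  0 < cnt ∧ ∃ c : ℕ → Q, c 0 = q0 ∧
    (∀ f < s, (F f).1.1 < cnt ∧ (F f).1.2.2 < cnt ∧ Valid F tw γ c f) ∧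
    (∀ w < np, ∀ wd, WT.get words w = some (wd, true) → ∀ q : Q, act γ wd q = tw (Ev w) • q)

omit [SMulCommClass G A Q] in
theorem inv_zero (q0 : Q) (words : WT) (nseed : ℕ) (hw : WordsOK Ev tw γ q0 words nseed) :
    Inv F Ev tw γ q0 words 0 1 nseed :=
  ⟨Nat.one_pos, fun _ => q0, rfl, fun f hf => absurd hf (Nat.not_lt_zero f),
    fun w hw' wd hget => (hw w wd true hget).2.1 rfl hw'⟩

include hfree in
theorem checkStep_sound (htw : TwOK tadd tz teq tw) (q0 : Q) (words : WT) (nseed : ℕ)
    (hw : WordsOK Ev tw γ q0 words nseed) (s cnt np code s' cnt' np' : ℕ)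
    (hI : Inv F Ev tw γ q0 words s cnt np)
    (h : checkStep tadd tz teq F Ev ng B words s cnt np code = some (s', cnt', np')) :
    Inv F Ev tw γ q0 words s' cnt' np' := by
  obtain ⟨hpos, c, hc0, hfacts, hwords⟩ := hI
  unfold checkStep at h
  simp only [force_eq] at h
  cases htag : Nat.mod code B with
  | zero =>
    rw [htag] at h
    simp only [Nat.rec_zero] at h
    unfold defStep at h
    rcases hF : F s with ⟨⟨a, x, b⟩, t⟩
    rw [hF] at h
    simp only [] at h
    cases hc : (Nat.ble (Nat.succ a) cnt && Nat.beq b cnt && Nat.ble (Nat.succ x) ng &&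
        teq t tz) with
    | false => rw [hc] at h; exact absurd h (by simp)
    | true =>
      rw [hc] at h
      simp only [cond_true, Option.some.injEq, Prod.mk.injEq] at h
      obtain ⟨rfl, rfl, rfl⟩ := h
      simp only [Bool.and_eq_true] at hc
      obtain ⟨⟨⟨h1, h2⟩, -⟩, h4⟩ := hc
      have ha : a < cnt := Nat.ble_eq.mp h1
      have hb : b = cnt := Nat.eq_of_beq_eq_true h2
      have ht : tw t = 1 := by rw [htw.eq _ _ h4, htw.zero]
      subst hb
      refine ⟨Nat.succ_pos _, Function.update c b (γ x • c a), ?_, ?_, hwords⟩
      · rw [Function.update_of_ne (by omega), hc0]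
      · intro f hf
        rcases Nat.lt_succ_iff_lt_or_eq.mp hf with hlt | rfl
        · obtain ⟨h1', h2', hv⟩ := hfacts f hlt
          refine ⟨by omega, by omega, ?_⟩
          unfold Valid at hv ⊢
          rw [Function.update_of_ne (by omega), Function.update_of_ne (by omega)]
          exact hv
        · rw [hF]
          refine ⟨by simp only []; omega, by simp only []; omega, ?_⟩
          unfold Valid
          rw [hF]
          simp only []
          rw [Function.update_self, Function.update_of_ne (by omega), ht, one_smul]
  | succ tag' =>
    rw [htag] at h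
    simp only [] at h
    cases hget : WT.get words (Nat.mod (Nat.div code B) B) with
    | none => rw [hget] at h; exact absurd h (by simp)
    | some v =>
      obtain ⟨wd, isRel⟩ := v
      rw [hget] at h
      simp only [] at h
      obtain ⟨hW1, -, hW3⟩ := hw _ wd isRel hget
      cases tag' with
      | zero =>
        simp only [Nat.rec_zero] at h
        unfold dedStep at h
        rcases hF : F s with ⟨⟨a, x, b⟩, t⟩
        rw [hF] at h
        simp only [] at h
        cases hw1 : walk tadd F B s (Nat.mod (Nat.div (Nat.div (Nat.div code B) B) B) B)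
            (Nat.div (Nat.div (Nat.div (Nat.div (Nat.div code B) B) B) B) B)
            (Nat.mod (Nat.div (Nat.div code B) B) B) wd tz with
        | none => rw [hw1] at h; exact absurd h (by simp)
        | some r1 =>
          obtain ⟨c5, p, rem1, acc1⟩ := r1
          rw [hw1] at h
          cases rem1 with
          | nil => exact absurd h (by simp)
          | cons y rem2 =>
            simp only [] at h
            cases hw2 : walk tadd F B s
                (Nat.mod (Nat.div (Nat.div (Nat.div (Nat.div code B) B) B) B) B) c5 b rem2
                (tadd acc1 t) with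
            | none => rw [hw2] at h; exact absurd h (by simp)
            | some r2 =>
              obtain ⟨c6, k', rem3, acc2⟩ := r2
              rw [hw2] at h
              cases rem3 with
              | cons _ _ => exact absurd h (by simp)
              | nil =>
                simp only [] at h
                generalize hk : Nat.mod (Nat.div (Nat.div code B) B) B = k at *
                generalize hwi : Nat.mod (Nat.div code B) B = w at *
                cases hc : (Nat.ble (Nat.succ a) cnt && Nat.ble (Nat.succ b) cnt && Nat.beq p a &&
                    Nat.beq x y && Nat.beq k' k &&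
                    (cond isRel (Nat.ble (Nat.succ w) np && teq acc2 (Ev w))
                      (Nat.beq k 0 && teq acc2 tz))) with
                | false => rw [hc] at h; exact absurd h (by simp)
                | true =>
                  rw [hc] at h
                  simp only [cond_true, Option.some.injEq, Prod.mk.injEq] at h
                  obtain ⟨rfl, rfl, rfl⟩ := h
                  simp only [Bool.and_eq_true] at hc
                  obtain ⟨⟨⟨⟨⟨h1, h2⟩, h3⟩, h4⟩, h5⟩, h6⟩ := hc
                  have ha : a < cnt := Nat.ble_eq.mp h1
                  have hb : b < cnt := Nat.ble_eq.mp h2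
                  have hpa : p = a := Nat.eq_of_beq_eq_true h3
                  have hxy : x = y := Nat.eq_of_beq_eq_true h4
                  have hkk : k' = k := Nat.eq_of_beq_eq_true h5
                  subst hpa hxy hkk
                  have hval : ∀ f < s, Valid F tw γ c f := fun f hf => (hfacts f hf).2.2
                  obtain ⟨u1, hu1, hc1⟩ := walk_sound tadd tz teq F B tw γ htw c s hval _ _ _ _ _
                    _ _ _ _ hw1
                  obtain ⟨u2, hu2, hc2⟩ := walk_sound tadd tz teq F B tw γ htw c s hval _ _ _ _ _
                    _ _ _ _ hw2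
                  rw [List.append_nil] at hu2
                  subst hu2
                  rw [htw.zero, one_smul] at hc1
                  -- the word acts on `c k'` as `tw acc2`
                  have hword : act γ wd (c k') = tw acc2 • c k' := by
                    cases isRel with
                    | true =>
                      simp only [cond_true, Bool.and_eq_true] at h6
                      have hwnp : w < np := Nat.ble_eq.mp h6.1
                      rw [hwords w hwnp wd hget, htw.eq _ _ h6.2]
                    | false =>
                      simp only [cond_false, Bool.and_eq_true] at h6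
                      have hk0 : k' = 0 := Nat.eq_of_beq_eq_true h6.1
                      rw [htw.eq _ _ h6.2, htw.zero, one_smul, hk0, hc0]
                      exact hW3 rfl
                  have hnew : γ x • c p = tw t • c b := by
                    rw [hu1, act_append, hc1] at hword
                    change act γ rem2 (γ x • tw acc1 • c p) = _ at hword
                    rw [smul_comm, act_smul_comm, ← hc2, htw.add, mul_smul,
                      ← act_smul_comm γ rem2 (tw t)] at hword
                    exact act_injective γ rem2 (smul_left_cancel _ hword)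
                  refine ⟨hpos, c, hc0, ?_, hwords⟩
                  intro f hf
                  rcases Nat.lt_succ_iff_lt_or_eq.mp hf with hlt | rfl
                  · exact hfacts f hlt
                  · rw [hF]
                    refine ⟨ha, hb, ?_⟩
                    unfold Valid
                    rw [hF]
                    exact hnew
      | succ tag'' =>
        simp only [] at h
        unfold promStep at h
        cases hw1 : walk tadd F B s (Nat.mod (Nat.div (Nat.div (Nat.div code B) B) B) B)
            (Nat.div (Nat.div (Nat.div (Nat.div (Nat.div code B) B) B) B) B)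
            (Nat.mod (Nat.div (Nat.div code B) B) B) wd tz with
        | none => rw [hw1] at h; exact absurd h (by simp)
        | some r1 =>
          obtain ⟨c5, k', rem1, acc⟩ := r1
          rw [hw1] at h
          cases rem1 with
          | cons _ _ => exact absurd h (by simp)
          | nil =>
            simp only [] at h
            generalize hk : Nat.mod (Nat.div (Nat.div code B) B) B = k at *
            generalize hwi : Nat.mod (Nat.div code B) B = w at *
            cases hc : (isRel && Nat.beq w np && Nat.beq k' k && teq acc (Ev w)) with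
            | false => rw [hc] at h; exact absurd h (by simp)
            | true =>
              rw [hc] at h
              simp only [cond_true, Option.some.injEq, Prod.mk.injEq] at h
              obtain ⟨rfl, rfl, rfl⟩ := h
              simp only [Bool.and_eq_true] at hc
              obtain ⟨⟨⟨h1, h2⟩, h3⟩, h4⟩ := hc
              have hwnp : w = np := Nat.eq_of_beq_eq_true h2
              have hkk : k' = k := Nat.eq_of_beq_eq_true h3
              subst hwnp hkk h1
              have hval : ∀ f < s, Valid F tw γ c f := fun f hf => (hfacts f hf).2.2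
              obtain ⟨u1, hu1, hc1⟩ := walk_sound tadd tz teq F B tw γ htw c s hval _ _ _ _ _
                _ _ _ _ hw1
              rw [List.append_nil] at hu1
              subst hu1
              rw [htw.zero, one_smul, htw.eq _ _ h4] at hc1
              obtain ⟨ρ, hρ⟩ := hW1 rfl
              have hρe : ρ = tw (Ev w) := hfree _ _ (c k') (by rw [← hρ, hc1])
              refine ⟨hpos, c, hc0, hfacts, ?_⟩
              intro w' hw' wd' hget'
              rcases Nat.lt_succ_iff_lt_or_eq.mp hw' with hlt | rfl
              · exact hwords w' hlt wd' hget'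
              · rw [hget] at hget'
                simp only [Option.some.injEq, Prod.mk.injEq] at hget'
                obtain ⟨rfl, -⟩ := hget'
                intro q
                rw [hρ, hρe]

include hfree in
theorem checkSteps_sound (htw : TwOK tadd tz teq tw) (q0 : Q) (words : WT) (nseed : ℕ)
    (hw : WordsOK Ev tw γ q0 words nseed) (L : List ℕ) :
    ∀ (s cnt np s' cnt' np' : ℕ), Inv F Ev tw γ q0 words s cnt np →
      checkSteps tadd tz teq F Ev ng B words L s cnt np = some (s', cnt', np') →
      Inv F Ev tw γ q0 words s' cnt' np' := by
  induction L with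
  | nil =>
    intro s cnt np s' cnt' np' hI h
    rw [checkSteps_nil] at h
    simp only [Option.some.injEq, Prod.mk.injEq] at h
    obtain ⟨rfl, rfl, rfl⟩ := h
    exact hI
  | cons c L ih =>
    intro s cnt np s' cnt' np' hI h
    rw [checkSteps_cons] at h
    cases hs : checkStep tadd tz teq F Ev ng B words s cnt np c with
    | none => rw [hs] at h; exact absurd h (by simp)
    | some r =>
      obtain ⟨s1, cnt1, np1⟩ := r
      rw [hs] at h
      simp only [] at h
      exact ih _ _ _ _ _ _
        (checkStep_sound tadd tz teq F Ev ng B tw γ hfree htw q0 words nseed hw _ _ _ _ _ _ _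
          hI hs) h

end sound

section cover

variable {τ : Type} (tadd : τ → τ → τ) (tz : τ) (teq : τ → τ → Bool)
variable (F : ℕ → (ℕ × ℕ × ℕ) × τ) (Ev : ℕ → τ) (ng B : ℕ)
variable {G Q A : Type*} [Group G] [MulAction G Q] [Group A] [MulAction A Q]
  [SMulCommClass G A Q]
variable (tw : τ → A) (γ : ℕ → G)

theorem checkRow_succ (s i n x c : ℕ) :
    checkRow F B s i (n + 1) x c =
      match F (Nat.mod c B) with
      | ((a, y, _), _) =>
        cond (Nat.ble (Nat.succ (Nat.mod c B)) s && Nat.beq a i && Nat.beq y x)
          (checkRow F B s i n (Nat.succ x) (Nat.div c B)) false := by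
  change (force (Nat.mod c B) fun f => force (Nat.div c B) fun c' =>
      match F f with
      | ((a, y, _), _) =>
        cond (Nat.ble (Nat.succ f) s && Nat.beq a i && Nat.beq y x)
          (checkRow F B s i n (Nat.succ x) c') false) = _
  rw [force_eq, force_eq]

theorem checkRow_sound (s i : ℕ) (n : ℕ) : ∀ (x c : ℕ),
    checkRow F B s i n x c = true → ∀ y, x ≤ y → y < x + n →
      ∃ f < s, (F f).1.1 = i ∧ (F f).1.2.1 = y := by
  induction n with
  | zero => intro x c _ y h1 h2; omega
  | succ n ih =>
    intro x c h y h1 h2
    rw [checkRow_succ] at h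
    rcases hF : F (Nat.mod c B) with ⟨⟨a, y', b⟩, t⟩
    rw [hF] at h
    simp only [] at h
    cases hc : (Nat.ble (Nat.succ (Nat.mod c B)) s && Nat.beq a i && Nat.beq y' x) with
    | false => rw [hc] at h; exact absurd h (by simp)
    | true =>
      rw [hc] at h
      simp only [cond_true] at h
      simp only [Bool.and_eq_true] at hc
      obtain ⟨⟨h3, h4⟩, h5⟩ := hc
      have hlt : Nat.mod c B < s := Nat.ble_eq.mp h3
      have hai : a = i := Nat.eq_of_beq_eq_true h4
      have hyx : y' = x := Nat.eq_of_beq_eq_true h5
      rcases Nat.eq_or_lt_of_le h1 with heq | hlt'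
      · subst heq
        exact ⟨_, hlt, by rw [hF]; exact hai, by rw [hF]; exact hyx⟩
      · exact ih _ _ h y hlt' (by omega)

theorem checkRows_sound (s : ℕ) (L : List ℕ) : ∀ i, checkRows F ng B s L i = true →
    ∀ j, i ≤ j → j < i + L.length → ∀ y < ng, ∃ f < s, (F f).1.1 = j ∧ (F f).1.2.1 = y := by
  induction L with
  | nil => intro i _ j h1 h2; simp at h2; omega
  | cons c L ih =>
    intro i h j h1 h2 y hy
    rw [checkRows_cons] at h
    cases hrow : checkRow F B s i ng 0 c with
    | false => rw [hrow] at h; exact absurd h (by simp)
    | true =>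
      rw [hrow] at h
      simp only [cond_true] at h
      rcases Nat.eq_or_lt_of_le h1 with heq | hlt
      · subst heq
        exact checkRow_sound F B s i ng 0 c hrow y (Nat.zero_le _) (by omega)
      · exact ih _ h j hlt (by simp at h2; omega) y hy

theorem checkRows_append (s : ℕ) (L1 L2 : List ℕ) (i : ℕ) :
    checkRows F ng B s (L1 ++ L2) i =
      (checkRows F ng B s L1 i && checkRows F ng B s L2 (i + L1.length)) := by
  induction L1 generalizing i with
  | nil => simp [checkRows_nil]
  | cons c L ih =>
    rw [List.cons_append, checkRows_cons, checkRows_cons, ih]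
    cases checkRow F B s i ng 0 c
    · simp
    · simp only [cond_true, List.length_cons]
      congr 2
      omega

/-- **Covering.** A certified trace with a closed final table: every point of the transitive
`G`-set `Q` is a twist of one of the `cnt` points of the nodes; moreover all promoted words act
by the stated twists. -/
theorem covered (q0 : Q) (words : WT) (s cnt np : ℕ)
    (hI : Inv F Ev tw γ q0 words s cnt np)
    (rows : List ℕ) (hrows : checkRows F ng B s rows 0 = true) (hlen : rows.length = cnt)
    (hgen : Subgroup.closure {g : G | ∃ x < ng, g = γ x} = ⊤)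
    (hinv : ∀ x < ng, ∃ y < ng, γ y = (γ x)⁻¹)
    [MulAction.IsPretransitive G Q] :
    ∃ c : ℕ → Q, c 0 = q0 ∧
      (∀ w < np, ∀ wd, WT.get words w = some (wd, true) →
        ∀ q : Q, act γ wd q = tw (Ev w) • q) ∧
      ∀ q : Q, ∃ i < cnt, ∃ α ∈ Subgroup.closure (Set.range tw), q = α • c i := by
  obtain ⟨hpos, c, hc0, hfacts, hwords⟩ := hI
  refine ⟨c, hc0, hwords, ?_⟩
  have hrs := checkRows_sound F ng B s rows 0 hrows
  have hclosed : ∀ x < ng, ∀ q : Q,
      (∃ i < cnt, ∃ α ∈ Subgroup.closure (Set.range tw), q = α • c i) →
      ∃ i < cnt, ∃ α ∈ Subgroup.closure (Set.range tw), γ x • q = α • c i := by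
    intro x hx q ⟨i, hi, α, hα, hq⟩
    obtain ⟨f, hf, hfi, hfx⟩ := hrs i (Nat.zero_le _) (by omega) x hx
    obtain ⟨-, hb, hv⟩ := hfacts f hf
    unfold Valid at hv
    rw [hfi, hfx] at hv
    refine ⟨_, hb, α * tw (F f).2, mul_mem hα (Subgroup.subset_closure ⟨_, rfl⟩), ?_⟩
    rw [hq, smul_comm, hv, mul_smul]
  have hall : ∀ g : G, ∀ q : Q,
      (∃ i < cnt, ∃ α ∈ Subgroup.closure (Set.range tw), q = α • c i) →
      ∃ i < cnt, ∃ α ∈ Subgroup.closure (Set.range tw), g • q = α • c i := by
    intro g
    have hg : g ∈ Subgroup.closure {g : G | ∃ x < ng, g = γ x} := by rw [hgen]; trivial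
    induction hg using Subgroup.closure_induction'' with
    | mem g hg =>
      obtain ⟨x, hx, rfl⟩ := hg
      exact hclosed x hx
    | inv_mem g hg =>
      obtain ⟨x, hx, rfl⟩ := hg
      obtain ⟨y, hy, hyx⟩ := hinv x hx
      rw [← hyx]
      exact hclosed y hy
    | one => intro q hq; rw [one_smul]; exact hq
    | mul g1 g2 _ _ ih1 ih2 =>
      intro q hq
      rw [mul_smul]
      exact ih1 _ (ih2 _ hq)
  intro q
  obtain ⟨g, rfl⟩ := MulAction.exists_smul_eq G q0 q
  apply hall
  exact ⟨0, hpos, 1, one_mem _, by rw [one_smul, hc0]⟩

end cover

end Cfsg.Agent.Lib.H17.MonoCert
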