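import Cfsg.Agent.Lib.H17.M22M.MonoData

set_option autoImplicit false

/-! # Gluing row checks -/

namespace Cfsg.Agent.Lib.H17.MonoCert

theorem checkRows_append_of {τ : Type} (F : ℕ → (ℕ × ℕ × ℕ) × τ) (ng B s : ℕ) (L1 L2 : List ℕ)
    (i n1 j : ℕ) (h1 : checkRows F ng B s L1 i = true) (hl : L1.length = n1) (hj : i + n1 = j)
    (h2 : checkRows F ng B s L2 j = true) : checkRows F ng B s (L1 ++ L2) i = true := by
  rw [checkRows_append, h1, hl, hj, h2]
  rfl

end Cfsg.Agent.Lib.H17.MonoCert
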