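import Cfsg.Agent.Lib.H17.M22M.MonoCert

set_option autoImplicit false

/-!
# Twists in `ℤ^k`: lists of integers acting through a list of commuting elements
-/

namespace Cfsg.Agent.Lib.H17.MonoCert

open Cfsg.Agent.Lib.H17.CosetCert (force force_eq)

/-- add two integer vectors, the shorter one padded by zeros -/
noncomputable def ladd : List ℤ → List ℤ → List ℤ :=
  List.rec (motive := fun _ => List ℤ → List ℤ) (fun t => t)
    (fun a _ ih t => List.rec (motive := fun _ => List ℤ) (a :: ih []) (fun b t' _ => Int.add a b :: ih t') t)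

theorem ladd_nil_left (t : List ℤ) : ladd [] t = t := rfl

theorem ladd_nil_right (s : List ℤ) : ladd s [] = s := by
  induction s with
  | nil => rfl
  | cons a s ih =>
    change a :: ladd s [] = a :: s
    rw [ih]

theorem ladd_cons (a b : ℤ) (s t : List ℤ) : ladd (a :: s) (b :: t) = (a + b) :: ladd s t := rfl

/-- equality test of integer vectors -/
def leq (s t : List ℤ) : Bool := decide (s = t)

/-- the element `∏ ζ_i ^ t_i` -/
def ltw {A : Type*} [CommGroup A] : List A → List ℤ → A
  | [], _ => 1
  | _, [] => 1
  | ζ :: ζs, e :: t => ζ ^ e * ltw ζs t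

theorem ltw_nil_right {A : Type*} [CommGroup A] (ζs : List A) : ltw ζs [] = 1 := by
  cases ζs <;> rfl

theorem ltw_add {A : Type*} [CommGroup A] (ζs : List A) (s t : List ℤ) :
    ltw ζs (ladd s t) = ltw ζs s * ltw ζs t := by
  induction ζs generalizing s t with
  | nil => simp [ltw]
  | cons ζ ζs ih =>
    cases s with
    | nil => rw [ladd_nil_left, ltw_nil_right, one_mul]
    | cons a s =>
      cases t with
      | nil => rw [ladd_nil_right, ltw_nil_right, mul_one]
      | cons b t =>
        rw [ladd_cons]
        change ζ ^ (a + b) * ltw ζs (ladd s t) = (ζ ^ a * ltw ζs s) * (ζ ^ b * ltw ζs t)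
        rw [ih, zpow_add]
        exact mul_mul_mul_comm _ _ _ _

theorem ltw_replicate_zero {A : Type*} [CommGroup A] (ζs : List A) (k : ℕ) :
    ltw ζs (List.replicate k 0) = 1 := by
  induction ζs generalizing k with
  | nil => simp [ltw]
  | cons ζ ζs ih =>
    cases k with
    | zero => exact ltw_nil_right _
    | succ k =>
      rw [List.replicate_succ]
      change ζ ^ (0 : ℤ) * ltw ζs (List.replicate k 0) = 1
      rw [ih, zpow_zero, one_mul]

theorem ltw_ok {A : Type*} [CommGroup A] (ζs : List A) (k : ℕ) :
    TwOK ladd (List.replicate k 0) leq (ltw ζs) where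
  zero := ltw_replicate_zero ζs k
  add := ltw_add ζs
  eq := by
    intro s t h
    have : s = t := of_decide_eq_true h
    rw [this]

theorem ltw_mem_closure {A : Type*} [CommGroup A] (ζs : List A) (t : List ℤ) :
    ltw ζs t ∈ Subgroup.closure {a : A | a ∈ ζs} := by
  induction ζs generalizing t with
  | nil => simp [ltw]
  | cons ζ ζs ih =>
    cases t with
    | nil => rw [ltw_nil_right]; exact one_mem _
    | cons e t =>
      change ζ ^ e * ltw ζs t ∈ _
      apply mul_mem
      · exact Subgroup.zpow_mem _ (Subgroup.subset_closure (by simp)) _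
      · exact Subgroup.closure_mono (fun a (ha : a ∈ ζs) => (List.mem_cons_of_mem _ ha : a ∈ ζ :: ζs)) (ih t)

end Cfsg.Agent.Lib.H17.MonoCert
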